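/-
Subgroupoids and restriction of a groupoid scheme to an invariant open.
-/
import Groth.Agent.GrpdLib.InvOpen

set_option autoImplicit false

universe u

open CategoryTheory CategoryTheory.Limits AlgebraicGeometry

namespace GrpdLib

variable {S : Scheme.{u}} (G : Grpd.GroupoidScheme S)

theorem comp_comp {T T' : Scheme.{u}} (γ : T' ⟶ T) (α β : T ⟶ G.R) (h : α ≫ G.s = β ≫ G.t) :
    γ ≫ pullback.lift α β h ≫ G.c =
      pullback.lift (γ ≫ α) (γ ≫ β) (by rw [Category.assoc, h, Category.assoc]) ≫ G.c := by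
  rw [← Category.assoc]
  congr 1
  apply pullback.hom_ext
  · rw [Category.assoc, pullback.lift_fst, pullback.lift_fst]
  · rw [Category.assoc, pullback.lift_snd, pullback.lift_snd]

section Sub

variable {U' R' : Scheme.{u}} (ιU : U' ⟶ G.U) (ιR : R' ⟶ G.R) [Mono ιU] [Mono ιR]
  (s' t' : R' ⟶ U') (hs : s' ≫ ιU = ιR ≫ G.s) (ht : t' ≫ ιU = ιR ≫ G.t)
  (e' : U' ⟶ R') (he : e' ≫ ιR = ιU ≫ G.e) (i' : R' ⟶ R') (hi : i' ≫ ιR = ιR ≫ G.i)
  (c' : pullback s' t' ⟶ R')
  (hc : c' ≫ ιR = pullback.lift (pullback.fst s' t' ≫ ιR) (pullback.snd s' t' ≫ ιR)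
    (by rw [Category.assoc, Category.assoc, ← hs, ← ht, ← Category.assoc, ← Category.assoc,
      pullback.condition]) ≫ G.c)

include hs ht hc in
omit [Mono ιU] [Mono ιR] in
theorem sub_comp {T : Scheme.{u}} (α β : T ⟶ R') (h : α ≫ s' = β ≫ t') :
    (pullback.lift α β h ≫ c') ≫ ιR = pullback.lift (α ≫ ιR) (β ≫ ιR)
      (by rw [Category.assoc, Category.assoc, ← hs, ← ht, ← Category.assoc, ← Category.assoc, h])
      ≫ G.c := by
  rw [Category.assoc, hc, comp_comp]
  exact comp_congr G _ (by rw [pullback.lift_fst_assoc]) (by rw [pullback.lift_snd_assoc])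

/-- The groupoid cut out by monomorphisms stable under all the structure maps. -/
noncomputable abbrev sub : Grpd.GroupoidScheme S where
  U := U'
  R := R'
  pU := ιU ≫ G.pU
  pR := ιR ≫ G.pR
  s := s'
  t := t'
  e := e'
  i := i'
  c := c'
  s_over := by rw [reassoc_of% hs, G.s_over]
  t_over := by rw [reassoc_of% ht, G.t_over]
  comp_s := fun α β h => by
    rw [← cancel_mono ιU, Category.assoc, hs, ← Category.assoc,
      sub_comp G ιU ιR s' t' hs ht c' hc, G.comp_s, Category.assoc, Category.assoc, hs]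
  comp_t := fun α β h => by
    rw [← cancel_mono ιU, Category.assoc, ht, ← Category.assoc,
      sub_comp G ιU ιR s' t' hs ht c' hc, G.comp_t, Category.assoc, Category.assoc, ht]
  assoc := fun α β γ h₁ h₂ => by
    have h₁' : (α ≫ ιR) ≫ G.s = (β ≫ ιR) ≫ G.t := by
      rw [Category.assoc, Category.assoc, ← hs, ← ht, reassoc_of% h₁]
    have h₂' : (β ≫ ιR) ≫ G.s = (γ ≫ ιR) ≫ G.t := by
      rw [Category.assoc, Category.assoc, ← hs, ← ht, reassoc_of% h₂]
    rw [← cancel_mono ιR]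
    refine (sub_comp G ιU ιR s' t' hs ht c' hc _ _ _).trans ?_
    refine Eq.trans ?_ (sub_comp G ιU ιR s' t' hs ht c' hc _ _ _).symm
    refine (comp_congr G _ (sub_comp G ιU ιR s' t' hs ht c' hc α β h₁) rfl).trans ?_
    refine (G.assoc _ _ _ h₁' h₂').trans ?_
    exact comp_congr G _ rfl (sub_comp G ιU ιR s' t' hs ht c' hc β γ h₂).symm
  e_s := by rw [← cancel_mono ιU, Category.assoc, hs, reassoc_of% he, G.e_s, Category.comp_id,
    Category.id_comp]
  e_t := by rw [← cancel_mono ιU, Category.assoc, ht, reassoc_of% he, G.e_t, Category.comp_id,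
    Category.id_comp]
  comp_e := fun α => by
    rw [← cancel_mono ιR, sub_comp G ιU ιR s' t' hs ht c' hc]
    conv_rhs => rw [← G.comp_e (α ≫ ιR)]
    exact comp_congr G _ rfl (by simp only [Category.assoc, he]; rw [reassoc_of% hs])
  e_comp := fun α => by
    rw [← cancel_mono ιR, sub_comp G ιU ιR s' t' hs ht c' hc]
    conv_rhs => rw [← G.e_comp (α ≫ ιR)]
    exact comp_congr G _ (by simp only [Category.assoc, he]; rw [reassoc_of% ht]) rfl
  i_s := by rw [← cancel_mono ιU, Category.assoc, hs, reassoc_of% hi, G.i_s, ht]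
  i_t := by rw [← cancel_mono ιU, Category.assoc, ht, reassoc_of% hi, G.i_t, hs]
  comp_i := fun α => by
    rw [← cancel_mono ιR]
    refine (sub_comp G ιU ιR s' t' hs ht c' hc _ _ _).trans ?_
    refine (comp_congr G _ rfl (by rw [Category.assoc, hi, ← Category.assoc] :
      (α ≫ i') ≫ ιR = (α ≫ ιR) ≫ G.i)).trans ((G.comp_i (α ≫ ιR)).trans ?_)
    rw [Category.assoc, Category.assoc, Category.assoc, he, reassoc_of% ht]
  i_comp := fun α => by
    rw [← cancel_mono ιR]
    refine (sub_comp G ιU ιR s' t' hs ht c' hc _ _ _).trans ?_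
    refine (comp_congr G _ (by rw [Category.assoc, hi, ← Category.assoc] :
      (α ≫ i') ≫ ιR = (α ≫ ιR) ≫ G.i) rfl).trans ((G.i_comp (α ≫ ιR)).trans ?_)
    rw [Category.assoc, Category.assoc, Category.assoc, he, reassoc_of% hs]

theorem mono_sub_j [Mono G.j] :
    Mono (sub G ιU ιR s' t' hs ht e' he i' hi c' hc).j := by
  refine ⟨fun {T} a b hab => ?_⟩
  have h₁ := congrArg (· ≫ pullback.fst _ _) hab
  have h₂ := congrArg (· ≫ pullback.snd _ _) hab
  simp only [Grpd.GroupoidScheme.j, Category.assoc, pullback.lift_fst] at h₁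
  simp only [Grpd.GroupoidScheme.j, Category.assoc, pullback.lift_snd] at h₂
  change T ⟶ R' at a b
  show a = b
  rw [← cancel_mono ιR]
  refine jointly_mono G ?_ ?_
  · rw [Category.assoc, Category.assoc, ← hs]
    simp only [← Category.assoc]
    exact congrArg (· ≫ ιU) h₂
  · rw [Category.assoc, Category.assoc, ← ht]
    simp only [← Category.assoc]
    exact congrArg (· ≫ ιU) h₁

end Sub

section Res

variable (W : G.U.Opens) (hW : G.s ⁻¹ᵁ W = G.t ⁻¹ᵁ W)

theorem factors_iff {X Y T : Scheme.{u}} (f : X ⟶ Y) [IsOpenImmersion f] (g : T ⟶ Y)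
    (h : ∀ x, g x ∈ Set.range f) : Set.range g ⊆ Set.range f := by
  rintro _ ⟨x, rfl⟩; exact h x

/-- The composition of two arrows over an invariant open stays there. -/
theorem range_res_c :
    Set.range (pullback.lift (pullback.fst (G.s ∣_ W) (G.t.resLE W (G.s ⁻¹ᵁ W) hW.le) ≫ (G.s ⁻¹ᵁ W).ι)
      (pullback.snd (G.s ∣_ W) (G.t.resLE W (G.s ⁻¹ᵁ W) hW.le) ≫ (G.s ⁻¹ᵁ W).ι)
      (by rw [Category.assoc, Category.assoc, ← morphismRestrict_ι,
        ← Scheme.Hom.resLE_comp_ι G.t hW.le, pullback.condition_assoc]) ≫ G.c)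
      ⊆ Set.range (G.s ⁻¹ᵁ W).ι := by
  rintro _ ⟨x, rfl⟩
  rw [Scheme.Opens.range_ι]
  show G.s _ ∈ W
  rw [← Scheme.Hom.comp_apply, G.comp_s, Category.assoc, ← morphismRestrict_ι, ← Category.assoc,
    Scheme.Hom.comp_apply]
  exact Subtype.coe_prop _

theorem range_res_e : Set.range (W.ι ≫ G.e) ⊆ Set.range (G.s ⁻¹ᵁ W).ι := by
  rintro _ ⟨x, rfl⟩
  rw [Scheme.Opens.range_ι]
  show G.s _ ∈ W
  rw [← Scheme.Hom.comp_apply, Category.assoc, G.e_s, Category.comp_id]
  exact x.2

include hW in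
theorem range_res_i : Set.range ((G.s ⁻¹ᵁ W).ι ≫ G.i) ⊆ Set.range (G.s ⁻¹ᵁ W).ι := by
  rintro _ ⟨x, rfl⟩
  rw [Scheme.Opens.range_ι]
  show G.s _ ∈ W
  rw [← Scheme.Hom.comp_apply, Category.assoc, G.i_s]
  exact hW.le x.2

/-- The restriction of a groupoid to an invariant open. -/
noncomputable abbrev res : Grpd.GroupoidScheme S :=
  sub G W.ι (G.s ⁻¹ᵁ W).ι (G.s ∣_ W) (G.t.resLE W (G.s ⁻¹ᵁ W) hW.le)
    (morphismRestrict_ι _ _) (Scheme.Hom.resLE_comp_ι _ _)
    (IsOpenImmersion.lift (G.s ⁻¹ᵁ W).ι _ (range_res_e G W)) (IsOpenImmersion.lift_fac _ _ _)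
    (IsOpenImmersion.lift (G.s ⁻¹ᵁ W).ι _ (range_res_i G W hW)) (IsOpenImmersion.lift_fac _ _ _)
    (IsOpenImmersion.lift (G.s ⁻¹ᵁ W).ι _ (range_res_c G W hW)) (IsOpenImmersion.lift_fac _ _ _)

/-- The inclusion of the objects of the restriction. -/
noncomputable abbrev resι : (res G W hW).U ⟶ G.U := W.ι

/-- The inclusion of the arrows of the restriction. -/
noncomputable abbrev resιR : (res G W hW).R ⟶ G.R := (G.s ⁻¹ᵁ W).ι

theorem res_s : (res G W hW).s ≫ W.ι = resιR G W hW ≫ G.s := morphismRestrict_ι _ _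

theorem res_t : (res G W hW).t ≫ W.ι = resιR G W hW ≫ G.t := Scheme.Hom.resLE_comp_ι _ _

instance [Mono G.j] : Mono (res G W hW).j := mono_sub_j ..

instance [IsFinite G.s] : IsFinite (res G W hW).s :=
  IsZariskiLocalAtTarget.restrict (P := @IsFinite) (f := G.s) inferInstance W

instance [Flat G.s] : Flat (res G W hW).s :=
  IsZariskiLocalAtTarget.restrict (P := @Flat) (f := G.s) inferInstance W

instance [LocallyOfFinitePresentation G.s] : LocallyOfFinitePresentation (res G W hW).s :=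
  IsZariskiLocalAtTarget.restrict (P := @LocallyOfFinitePresentation) (f := G.s) inferInstance W

theorem rel_res_iff (x y : (res G W hW).U) :
    Rel (res G W hW) x y ↔ Rel G (resι G W hW x) (resι G W hW y) := by
  constructor
  · rintro ⟨r, rfl, rfl⟩
    refine ⟨resιR G W hW r, ?_, ?_⟩
    · rw [← Scheme.Hom.comp_apply, ← res_s, Scheme.Hom.comp_apply]
    · rw [← Scheme.Hom.comp_apply, ← res_t, Scheme.Hom.comp_apply]
  · rintro ⟨r, hr, hr'⟩
    have hrW : r ∈ G.s ⁻¹ᵁ W := by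
      show G.s r ∈ W
      rw [hr]; exact Subtype.coe_prop _
    let r' : (res G W hW).R := ⟨r, hrW⟩
    refine ⟨r', W.ι.isOpenEmbedding.injective ?_, W.ι.isOpenEmbedding.injective ?_⟩
    · exact (congrArg (fun φ : (res G W hW).R ⟶ G.U => φ r') (res_s G W hW)).trans hr
    · exact (congrArg (fun φ : (res G W hW).R ⟶ G.U => φ r') (res_t G W hW)).trans hr'

end Res

end GrpdLib
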