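/-
Quotients of groupoid schemes: definition and the affine case.
-/
import Groth.Agent.GrpdLib.Quot.Sub
import Groth.Agent.S1878
import Mathlib.AlgebraicGeometry.Morphisms.Integral

set_option autoImplicit false

universe u

open CategoryTheory CategoryTheory.Limits AlgebraicGeometry

namespace GrpdLib

variable {S : Scheme.{u}} (G : Grpd.GroupoidScheme S)

/-- A morphism from a part of the objects is constant along the arrows. -/
def Inv {X Z : Scheme.{u}} (ι : X ⟶ G.U) (h : X ⟶ Z) : Prop :=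
  ∀ ⦃T : Scheme.{u}⦄ (r : T ⟶ G.R) (a b : T ⟶ X),
    r ≫ G.s = a ≫ ι → r ≫ G.t = b ≫ ι → a ≫ h = b ≫ h

/-- A quotient of a groupoid scheme, with its universal property over every open. -/
structure IsQuot {Y : Scheme.{u}} (p : G.U ⟶ Y) : Prop where
  w : G.t ≫ p = G.s ≫ p
  surj : Function.Surjective p
  isOpenMap : IsOpenMap p
  rel : ∀ x y, p x = p y ↔ Rel G x y
  univ : ∀ {O X Z : Scheme.{u}} (j : O ⟶ Y) [IsOpenImmersion j] (jX : X ⟶ G.U) (p' : X ⟶ O),
    IsPullback jX p' p j → ∀ h : X ⟶ Z, Inv G jX h → ∃! g : O ⟶ Z, p' ≫ g = h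

theorem inv_comp {Y O X Z : Scheme.{u}} {p : G.U ⟶ Y} (w : G.t ≫ p = G.s ≫ p) {j : O ⟶ Y}
    [Mono j] {jX : X ⟶ G.U} {p' : X ⟶ O} (hpb : jX ≫ p = p' ≫ j) (g : O ⟶ Z) :
    Inv G jX (p' ≫ g) := by
  intro T r a b ha hb
  have : a ≫ p' = b ≫ p' := by
    rw [← cancel_mono j, Category.assoc, Category.assoc, ← hpb, ← reassoc_of% ha,
      ← reassoc_of% hb, w]
  rw [reassoc_of% this]

theorem IsQuot.hom_ext {Y : Scheme.{u}} {p : G.U ⟶ Y} (hp : IsQuot G p) {O X Z : Scheme.{u}}
    (j : O ⟶ Y) [IsOpenImmersion j] {jX : X ⟶ G.U} {p' : X ⟶ O} (hpb : IsPullback jX p' p j)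
    {g g' : O ⟶ Z} (h : p' ≫ g = p' ≫ g') : g = g' :=
  (hp.univ j jX p' hpb (p' ≫ g) (inv_comp G hp.w hpb.w g)).unique rfl h.symm

theorem inv_id {Z : Scheme.{u}} {h : G.U ⟶ Z} (hh : G.t ≫ h = G.s ≫ h) : Inv G (𝟙 G.U) h := by
  intro T r a b ha hb
  rw [Category.comp_id] at ha hb
  rw [← ha, ← hb, Category.assoc, Category.assoc, hh]

theorem IsQuot.existsUnique_desc {Y : Scheme.{u}} {p : G.U ⟶ Y} (hp : IsQuot G p) {Z : Scheme.{u}}
    (h : G.U ⟶ Z) (hh : G.t ≫ h = G.s ≫ h) : ∃! g : Y ⟶ Z, p ≫ g = h :=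
  hp.univ (𝟙 Y) (𝟙 G.U) p (IsPullback.of_horiz_isIso ⟨by simp⟩) h (inv_id G hh)

/-- A quotient is a coequalizer in schemes. -/
noncomputable def IsQuot.isColimit {Y : Scheme.{u}} {p : G.U ⟶ Y} (hp : IsQuot G p) :
    IsColimit (Cofork.ofπ p hp.w) :=
  Cofork.IsColimit.mk _ (fun c => (hp.existsUnique_desc G c.π c.condition).exists.choose)
    (fun c => (hp.existsUnique_desc G c.π c.condition).exists.choose_spec)
    (fun c m hm => (hp.existsUnique_desc G c.π c.condition).unique hm
      (hp.existsUnique_desc G c.π c.condition).exists.choose_spec)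

section Ring

variable {A B : Type u} [CommRing A] [CommRing B] {C : Subring A} (c : C) (Cc Ac : Type u)
  [CommRing Cc] [CommRing Ac] [Algebra C Cc] [Algebra A Ac] [IsLocalization.Away c Cc]
  [IsLocalization.Away (C.subtype c) Ac]

theorem away_map_injective :
    Function.Injective (IsLocalization.Away.map Cc Ac C.subtype c) := by
  rw [injective_iff_map_eq_zero]
  intro z hz
  obtain ⟨n, a, ha⟩ := IsLocalization.Away.surj c z
  have h1 := congrArg (IsLocalization.Away.map Cc Ac C.subtype c) ha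
  rw [map_mul, hz, zero_mul, IsLocalization.Away.map, IsLocalization.map_eq,
    ← map_zero (algebraMap A Ac)] at h1
  obtain ⟨m, hm⟩ := IsLocalization.Away.exists_of_eq (C.subtype c) h1
  have h2 : c ^ m * a = 0 := Subtype.ext (by simpa using hm.symm)
  have h3 := congrArg (algebraMap C Cc) h2
  rw [map_mul, map_zero, ← ha, map_pow] at h3
  exact (((IsLocalization.Away.algebraMap_isUnit (S := Cc) c).pow n).mul_left_eq_zero).mp
    ((((IsLocalization.Away.algebraMap_isUnit (S := Cc) c).pow m).mul_right_eq_zero).mp h3)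

theorem away_map_comp :
    (IsLocalization.Away.map Cc Ac C.subtype c).comp (algebraMap C Cc) =
      (algebraMap A Ac).comp C.subtype := by
  unfold IsLocalization.Away.map
  exact IsLocalization.map_comp _

theorem exists_away_lift (g : A →+* B) (hg : IsUnit (g c.1)) :
    ∃ σ : Ac →+* B, σ.comp (algebraMap A Ac) = g :=
  ⟨IsLocalization.Away.lift (C.subtype c) hg, IsLocalization.Away.lift_comp (C.subtype c) hg⟩

theorem mem_range_away_map {Bc : Type u} [CommRing Bc] [Algebra B Bc] (s t : A →+* B)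
    (hC : C = RingHom.eqLocus s t) [IsLocalization.Away (s c.1) Bc] (σ τ : Ac →+* Bc)
    (hσ : ∀ a, σ (algebraMap A Ac a) = algebraMap B Bc (s a))
    (hτ : ∀ a, τ (algebraMap A Ac a) = algebraMap B Bc (t a))
    (z : Ac) (hz : σ z = τ z) : z ∈ (IsLocalization.Away.map Cc Ac C.subtype c).range := by
  have hc : t c.1 = s c.1 := (hC.le c.2).symm
  obtain ⟨n, a, ha⟩ := IsLocalization.Away.surj (C.subtype c) z
  have h1 := congrArg σ ha
  have h2 := congrArg τ ha
  rw [map_mul, map_pow, hσ, hσ] at h1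
  rw [map_mul, map_pow, hτ, hτ, ← hz, Subring.coe_subtype, hc] at h2
  obtain ⟨m, hm⟩ := IsLocalization.Away.exists_of_eq (s c.1) (h1.symm.trans h2)
  have hinv : c.1 ^ m * a ∈ C := hC.ge (by
    show s _ = t _
    rw [map_mul, map_mul, map_pow, map_pow, hc]
    exact hm)
  refine ⟨IsLocalization.mk' (M := Submonoid.powers c) _ (⟨_, hinv⟩ : C) ⟨c ^ (m + n), m + n, rfl⟩, ?_⟩
  rw [IsLocalization.Away.map, IsLocalization.map_mk', IsLocalization.mk'_eq_iff_eq_mul]
  simp only [Subring.coe_subtype, SubmonoidClass.coe_pow, map_mul, map_pow]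
  rw [Subring.coe_subtype] at ha
  rw [← ha, pow_add]
  ring

end Ring

theorem toΓ_map_comp {X : Scheme.{u}} {D D' : CommRingCat.{u}} (φ : D ⟶ D') (g : Spec D ⟶ X) :
    toΓ (Spec.map φ ≫ g) = toΓ g ≫ φ := by
  rw [toΓ, toΓ, Scheme.Hom.comp_appTop, Category.assoc, Category.assoc,
    Scheme.ΓSpecIso_naturality]

theorem ofΓ_comp_eq {X Y : Scheme.{u}} [IsAffine X] [IsAffine Y] (g : X ⟶ Y)
    {D E : CommRingCat.{u}} (φ : Γ(X, ⊤) ⟶ E) (ψ : D ⟶ E) (χ : Γ(Y, ⊤) ⟶ D)
    (h : g.appTop ≫ φ = χ ≫ ψ) : ofΓ φ ≫ g = Spec.map ψ ≫ ofΓ χ := by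
  rw [ofΓ_comp, h, ofΓ, ofΓ, Spec.map_comp, Category.assoc]

section Affine

variable [IsAffine G.U] [IsAffine G.R] (c : G.invariants)

theorem t_toQuot : G.t ≫ G.toQuot = G.s ≫ G.toQuot := by
  rw [Grpd.GroupoidScheme.toQuot, Scheme.toSpecΓ_naturality_assoc,
    Scheme.toSpecΓ_naturality_assoc, ← Spec.map_comp, ← Spec.map_comp]
  congr 2
  ext a
  exact a.2.symm

instance : IsLocalization.Away (G.invariants.subtype c) (Localization.Away c.1) :=
  inferInstanceAs (IsLocalization (Submonoid.powers c.1) (Localization.Away c.1))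

/-- The part of the objects over a basic open of the quotient. -/
noncomputable def jc : Spec (CommRingCat.of (Localization.Away c.1)) ⟶ G.U :=
  ofΓ (CommRingCat.ofHom (algebraMap Γ(G.U, ⊤) (Localization.Away c.1)))

/-- The quotient map over a basic open. -/
noncomputable def pc :
    Spec (CommRingCat.of (Localization.Away c.1)) ⟶ Spec (CommRingCat.of (Localization.Away c)) :=
  Spec.map (CommRingCat.ofHom (IsLocalization.Away.map _ _ G.invariants.subtype c))

/-- A basic open of the quotient. -/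
noncomputable def kc :
    Spec (CommRingCat.of (Localization.Away c)) ⟶ Spec (CommRingCat.of G.invariants) :=
  Spec.map (CommRingCat.ofHom (algebraMap G.invariants (Localization.Away c)))

instance : IsOpenImmersion (kc G c) := IsOpenImmersion.of_isLocalization c

omit [IsAffine G.R] in
theorem isPullback_jc : IsPullback (jc G c) (pc G c) G.toQuot (kc G c) := by
  have : IsLocalization ((Submonoid.powers c).map G.invariants.subtype)
      (Localization.Away c.1) := by
    rw [Submonoid.map_powers]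
    infer_instance
  refine (isPullback_SpecMap_of_isPushout _ _ _ _
    (CommRingCat.isPushout_of_isLocalization (R := G.invariants) (Rₘ := Localization.Away c)
      (S := Γ(G.U, ⊤)) (Sₘ := Localization.Away c.1) G.invariants.subtype
      (IsLocalization.Away.map (Localization.Away c) (Localization.Away c.1) G.invariants.subtype c)
      (away_map_comp c _ _)
      (Submonoid.powers c))).of_iso (Iso.refl _)
      G.U.isoSpec.symm (Iso.refl _) (Iso.refl _) ?_ ?_ ?_ ?_
  · simp [jc, ofΓ]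
  · simp [pc]
  · rw [Grpd.GroupoidScheme.toQuot, ← Scheme.isoSpec_hom]
    simp
  · simp [kc]

omit [IsAffine G.U] [IsAffine G.R] in
theorem pc_cancel {Z : Scheme.{u}} [IsAffine Z]
    {g g' : Spec (CommRingCat.of (Localization.Away c)) ⟶ Z} (h : pc G c ≫ g = pc G c ≫ g') :
    g = g' := by
  have h' := congrArg toΓ h
  rw [pc, toΓ_map_comp, toΓ_map_comp] at h'
  refine toΓ_injective ?_
  ext z
  exact away_map_injective c _ _ (congrArg (fun φ => φ.hom z) h')

theorem exists_pc_desc {Z : Scheme.{u}} [IsAffine Z]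
    (h : Spec (CommRingCat.of (Localization.Away c.1)) ⟶ Z) (hh : Inv G (jc G c) h) :
    ∃ g : Spec (CommRingCat.of (Localization.Away c)) ⟶ Z, pc G c ≫ g = h := by
  let Bc := Localization.Away (G.s.appTop.hom c.1)
  let l : Γ(G.R, ⊤) →+* Bc := algebraMap _ _
  have hcst : G.t.appTop.hom c.1 = G.s.appTop.hom c.1 := c.2.symm
  have hus : IsUnit (l.comp G.s.appTop.hom c.1) :=
    IsLocalization.Away.algebraMap_isUnit (G.s.appTop.hom c.1)
  have hut : IsUnit (l.comp G.t.appTop.hom c.1) := by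
    show IsUnit (l (G.t.appTop.hom c.1))
    rw [hcst]; exact hus
  obtain ⟨σ, hσ'⟩ := exists_away_lift c (Localization.Away c.1) _ hus
  obtain ⟨τ, hτ'⟩ := exists_away_lift c (Localization.Away c.1) _ hut
  have hσ : G.s.appTop ≫ CommRingCat.ofHom l =
      CommRingCat.ofHom (algebraMap Γ(G.U, ⊤) (Localization.Away c.1)) ≫ CommRingCat.ofHom σ :=
    CommRingCat.hom_ext hσ'.symm
  have hτ : G.t.appTop ≫ CommRingCat.ofHom l =
      CommRingCat.ofHom (algebraMap Γ(G.U, ⊤) (Localization.Away c.1)) ≫ CommRingCat.ofHom τ :=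
    CommRingCat.hom_ext hτ'.symm
  have hr := hh (ofΓ (CommRingCat.ofHom l)) (Spec.map (CommRingCat.ofHom σ))
    (Spec.map (CommRingCat.ofHom τ)) (ofΓ_comp_eq G.s _ _ _ hσ) (ofΓ_comp_eq G.t _ _ _ hτ)
  have hst := congrArg toΓ hr
  rw [toΓ_map_comp, toΓ_map_comp] at hst
  let fm := IsLocalization.Away.map (Localization.Away c) (Localization.Away c.1)
    G.invariants.subtype c
  have hrange : ∀ z, (toΓ h).hom z ∈ fm.range := fun z =>
    mem_range_away_map (B := Γ(G.R, ⊤)) c (Localization.Away c) (Localization.Away c.1)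
      (Bc := Bc) G.s.appTop.hom G.t.appTop.hom rfl σ τ (fun a => RingHom.congr_fun hσ' a)
      (fun a => RingHom.congr_fun hτ' a) _ (congrArg (fun φ => φ.hom z) hst)
  let e := RingEquiv.ofBijective fm.rangeRestrict
    ⟨fun x y hxy => away_map_injective c _ _ (congrArg Subtype.val hxy), fm.rangeRestrict_surjective⟩
  refine ⟨ofΓ (CommRingCat.ofHom (e.symm.toRingHom.comp ((toΓ h).hom.codRestrict _ hrange))),
    toΓ_injective ?_⟩
  rw [pc, toΓ_map_comp, toΓ_ofΓ]
  ext z
  exact congrArg Subtype.val (e.apply_symm_apply ⟨_, hrange z⟩)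

variable [IsFinite G.s] [Flat G.s] [LocallyOfFinitePresentation G.s]
  [IsFinite G.t] [Flat G.t] [LocallyOfFinitePresentation G.t]

theorem isIntegralHom_toQuot : IsIntegralHom G.toQuot := by
  let _ := G.s.appTop.hom.toAlgebra
  obtain ⟨_, _⟩ := finite_projective G
  obtain ⟨E, hE⟩ := exists_grd G
  have hinv : E.inv = G.invariants := by
    show RingHom.eqLocus G.s.appTop.hom E.t = _
    rw [hE]
    rfl
  have hint : G.invariants.subtype.IsIntegral := by
    cases subsingleton_or_nontrivial Γ(G.U, ⊤) with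
    | inl _ => exact fun x => ⟨Polynomial.X, Polynomial.monic_X, Subsingleton.elim _ _⟩
    | inr _ => rw [← hinv]; exact E.isIntegral
  have := (IsIntegralHom.SpecMap_iff (φ := CommRingCat.ofHom G.invariants.subtype)).mpr hint
  rw [Grpd.GroupoidScheme.toQuot]
  infer_instance

theorem isOpenMap_toQuot : IsOpenMap G.toQuot := by
  obtain ⟨⟨hsurj, hrel⟩, -⟩ := Groth.Agent.S1878.result S G
  have hint := isIntegralHom_toQuot G
  intro O hO
  have ht : IsOpen (G.t '' (G.s ⁻¹' O)) :=
    G.t.isOpenMap _ (hO.preimage G.s.continuous)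
  have heq : (G.toQuot '' O)ᶜ = G.toQuot '' (G.t '' (G.s ⁻¹' O))ᶜ := by
    ext m
    constructor
    · intro hm
      obtain ⟨x, rfl⟩ := hsurj m
      refine ⟨x, ?_, rfl⟩
      rintro ⟨r, hr, rfl⟩
      exact hm ⟨_, hr, ((hrel _ _).mpr ⟨r, rfl, rfl⟩).symm⟩
    · rintro ⟨x, hx, rfl⟩ ⟨y, hy, hxy⟩
      obtain ⟨r, hr, hr'⟩ := (hrel x y).mp hxy.symm
      exact hx ⟨r, by rw [Set.mem_preimage, hr']; exact hy, hr⟩
  rw [← isClosed_compl_iff, heq]
  exact G.toQuot.isClosedMap _ ht.isClosed_compl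

end Affine

end GrpdLib
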