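/-
The affine quotient has the universal property.
-/
import Groth.Agent.GrpdLib.Quot.Basic
import Mathlib.AlgebraicGeometry.Morphisms.UnderlyingMap

set_option autoImplicit false

universe u

open CategoryTheory CategoryTheory.Limits AlgebraicGeometry

namespace GrpdLib

variable {S : Scheme.{u}} (G : Grpd.GroupoidScheme S)

theorem isOpenImmersion_jX {Y O X : Scheme.{u}} {p : G.U ⟶ Y} {j : O ⟶ Y} [IsOpenImmersion j]
    {jX : X ⟶ G.U} {p' : X ⟶ O} (hpb : IsPullback jX p' p j) : IsOpenImmersion jX :=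
  MorphismProperty.of_isPullback (P := @IsOpenImmersion) hpb.flip inferInstance

/-- An invariant morphism is constant on the classes. -/
theorem Inv.apply_eq {X Z : Scheme.{u}} {ι : X ⟶ G.U} [IsOpenImmersion ι] {h : X ⟶ Z}
    (hh : Inv G ι h) {x y : X} (hxy : Rel G (ι x) (ι y)) : h x = h y := by
  obtain ⟨r, hr, hr'⟩ := hxy
  let f := G.R.fromSpecResidueField r
  let pt : Spec (G.R.residueField r) := IsLocalRing.closedPoint (G.R.residueField r)
  have hf : ∀ z, f z = r := fun z => Scheme.fromSpecResidueField_apply r z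
  have ha : Set.range (f ≫ G.s) ⊆ Set.range ι := by
    rintro _ ⟨z, rfl⟩
    exact ⟨x, by rw [Scheme.Hom.comp_apply, hf, hr]⟩
  have hb : Set.range (f ≫ G.t) ⊆ Set.range ι := by
    rintro _ ⟨z, rfl⟩
    exact ⟨y, by rw [Scheme.Hom.comp_apply, hf, hr']⟩
  have := congrArg (fun φ => φ pt) (hh f (IsOpenImmersion.lift ι _ ha) (IsOpenImmersion.lift ι _ hb)
    (IsOpenImmersion.lift_fac _ _ _).symm (IsOpenImmersion.lift_fac _ _ _).symm)
  simp only [Scheme.Hom.comp_apply] at this
  convert this using 2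
  · apply ι.isOpenEmbedding.injective
    rw [← Scheme.Hom.comp_apply, IsOpenImmersion.lift_fac, Scheme.Hom.comp_apply, hf, hr]
  · apply ι.isOpenEmbedding.injective
    rw [← Scheme.Hom.comp_apply, IsOpenImmersion.lift_fac, Scheme.Hom.comp_apply, hf, hr']

/-- A basic open inside an open subscheme of a spectrum. -/
theorem exists_away_lift_subset {C : Type u} [CommRing C] {O : Scheme.{u}}
    (j : O ⟶ Spec (CommRingCat.of C))
    [IsOpenImmersion j] (N : Set O) (hN : IsOpen N) (o : O) (ho : o ∈ N) :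
    ∃ (c : C) (k : Spec (CommRingCat.of (Localization.Away c)) ⟶ O),
      k ≫ j = Spec.map (CommRingCat.ofHom (algebraMap C (Localization.Away c))) ∧
        Set.range k ⊆ N ∧ o ∈ Set.range k := by
  obtain ⟨_, ⟨⟨c, rfl⟩, hoc, hcN⟩⟩ :=
    PrimeSpectrum.isTopologicalBasis_basic_opens.exists_subset_of_mem_open
      (show j o ∈ j '' N from ⟨o, ho, rfl⟩) (j.isOpenEmbedding.isOpenMap _ hN)
  let kc := Spec.map (CommRingCat.ofHom (algebraMap C (Localization.Away c)))
  have : IsOpenImmersion kc := IsOpenImmersion.of_isLocalization c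
  have hkc : Set.range kc = (PrimeSpectrum.basicOpen c : Set (PrimeSpectrum C)) :=
    PrimeSpectrum.localization_away_comap_range _ c
  have hsub : Set.range kc ⊆ Set.range j := by
    rw [hkc]
    exact hcN.trans (Set.image_subset_range _ _)
  refine ⟨c, IsOpenImmersion.lift j kc hsub, IsOpenImmersion.lift_fac _ _ _, ?_, ?_⟩
  · rintro _ ⟨z, rfl⟩
    obtain ⟨n, hn, hjn⟩ := hcN (hkc.le (Set.mem_range_self z))
    rwa [show IsOpenImmersion.lift j kc hsub z = n from j.isOpenEmbedding.injective (by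
      rw [← Scheme.Hom.comp_apply, IsOpenImmersion.lift_fac, hjn])]
  · obtain ⟨z, hz⟩ := hkc.ge hoc
    exact ⟨z, j.isOpenEmbedding.injective (by
      rw [← Scheme.Hom.comp_apply, IsOpenImmersion.lift_fac, hz])⟩

variable [IsAffine G.U] [IsAffine G.R]
  [IsFinite G.s] [Flat G.s] [LocallyOfFinitePresentation G.s]
  [IsFinite G.t] [Flat G.t] [LocallyOfFinitePresentation G.t]

variable {O X : Scheme.{u}} {j : O ⟶ Spec (CommRingCat.of G.invariants)} [IsOpenImmersion j]
  {jX : X ⟶ G.U} {p' : X ⟶ O}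

omit [IsAffine G.U] [IsAffine G.R] [IsFinite G.s] [Flat G.s] [LocallyOfFinitePresentation G.s]
  [IsFinite G.t] [Flat G.t] [LocallyOfFinitePresentation G.t] [IsOpenImmersion j] in
theorem image_eq (hpb : IsPullback jX p' G.toQuot j) (hj : Function.Injective j) (Q : Set X) :
    p' '' Q = j ⁻¹' (G.toQuot '' (jX '' Q)) := by
  have hc : ∀ x, G.toQuot (jX x) = j (p' x) := fun x => by
    rw [← Scheme.Hom.comp_apply, hpb.w, Scheme.Hom.comp_apply]
  ext o
  constructor
  · rintro ⟨x, hx, rfl⟩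
    exact ⟨_, ⟨x, hx, rfl⟩, hc x⟩
  · rintro ⟨_, ⟨x, hx, rfl⟩, hxo⟩
    exact ⟨x, hx, hj ((hc x).symm.trans hxo)⟩

theorem surjective_p' (hpb : IsPullback jX p' G.toQuot j) : Function.Surjective p' := by
  have : Surjective G.toQuot := ⟨(Groth.Agent.S1878.result S G).1.1⟩
  exact (MorphismProperty.of_isPullback (P := @Surjective) hpb this).surj

theorem affine_ext (hpb : IsPullback jX p' G.toQuot j) {Z : Scheme.{u}} {g g' : O ⟶ Z}
    (hg : p' ≫ g = p' ≫ g') : g = g' := by
  refine Scheme.hom_ext_of_forall _ _ fun o => ?_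
  obtain ⟨x, rfl⟩ := surjective_p' G hpb o
  have hx : g (p' x) = g' (p' x) := by
    rw [← Scheme.Hom.comp_apply, hg, Scheme.Hom.comp_apply]
  obtain ⟨Z0, hZ0, hzZ0, -⟩ := exists_isAffineOpen_mem_and_subset (U := (⊤ : Z.Opens))
    (x := g (p' x)) trivial
  obtain ⟨c, k, hk, hkN, hko⟩ := exists_away_lift_subset j _
    ((g ⁻¹ᵁ Z0).isOpen.inter (g' ⁻¹ᵁ Z0).isOpen) (p' x)
    ⟨hzZ0, show g' (p' x) ∈ Z0 by rwa [← hx]⟩
  have : IsAffine Z0 := hZ0
  have : IsOpenImmersion k := by
    have : IsOpenImmersion (k ≫ j) := by rw [hk]; exact IsOpenImmersion.of_isLocalization c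
    exact IsOpenImmersion.of_comp k j
  have hr : Set.range (k ≫ g) ⊆ Set.range Z0.ι := by
    rintro _ ⟨z, rfl⟩; rw [Scheme.Opens.range_ι]; exact (hkN ⟨z, rfl⟩).1
  have hr' : Set.range (k ≫ g') ⊆ Set.range Z0.ι := by
    rintro _ ⟨z, rfl⟩; rw [Scheme.Opens.range_ι]; exact (hkN ⟨z, rfl⟩).2
  let ψ := hpb.lift (jc G c) (pc G c ≫ k) (by
    rw [(isPullback_jc G c).w, Category.assoc, hk]; rfl)
  have h0 : IsOpenImmersion.lift Z0.ι _ hr = IsOpenImmersion.lift Z0.ι _ hr' := by
    refine pc_cancel G c ((cancel_mono Z0.ι).mp ?_)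
    rw [Category.assoc, Category.assoc, IsOpenImmersion.lift_fac, IsOpenImmersion.lift_fac,
      ← Category.assoc, ← Category.assoc, show pc G c ≫ k = ψ ≫ p' from (hpb.lift_snd ..).symm,
      Category.assoc, Category.assoc, hg]
  have h1 : k ≫ g = k ≫ g' := by
    rw [← IsOpenImmersion.lift_fac Z0.ι _ hr, h0, IsOpenImmersion.lift_fac]
  refine ⟨k.opensRange, hko, ?_⟩
  rw [← cancel_epi k.isoOpensRange.hom, Scheme.Hom.isoOpensRange_hom_ι_assoc,
    Scheme.Hom.isoOpensRange_hom_ι_assoc, h1]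

theorem affine_desc (hpb : IsPullback jX p' G.toQuot j) {Z : Scheme.{u}} (h : X ⟶ Z)
    (hh : Inv G jX h) : ∃ g : O ⟶ Z, p' ≫ g = h := by
  classical
  have : IsOpenImmersion jX := isOpenImmersion_jX G hpb
  obtain ⟨⟨-, hrel⟩, -⟩ := Groth.Agent.S1878.result S G
  have hc : ∀ x, G.toQuot (jX x) = j (p' x) := fun x => by
    rw [← Scheme.Hom.comp_apply, hpb.w, Scheme.Hom.comp_apply]
  have key : ∀ o : O, ∃ (c : G.invariants)
      (k : Spec (CommRingCat.of (Localization.Away c)) ⟶ O)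
      (g : Spec (CommRingCat.of (Localization.Away c)) ⟶ Z),
      o ∈ Set.range k ∧ IsOpenImmersion k ∧
      ∀ {P : Scheme.{u}} (a : P ⟶ X) (b : P ⟶ Spec (CommRingCat.of (Localization.Away c))),
        a ≫ p' = b ≫ k → b ≫ g = a ≫ h := by
    intro o
    obtain ⟨x, rfl⟩ := surjective_p' G hpb o
    obtain ⟨Z0, hZ0, hzZ0, -⟩ := exists_isAffineOpen_mem_and_subset (U := (⊤ : Z.Opens))
      (x := h x) trivial
    have : IsAffine Z0 := hZ0
    have hN : IsOpen (p' '' (h ⁻¹ᵁ Z0 : Set X)) := by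
      rw [image_eq G hpb j.isOpenEmbedding.injective]
      exact (isOpenMap_toQuot G _ (jX.isOpenEmbedding.isOpenMap _ (h ⁻¹ᵁ Z0).isOpen)).preimage
        j.continuous
    obtain ⟨c, k, hk, hkN, hko⟩ := exists_away_lift_subset j _ hN (p' x) ⟨x, hzZ0, rfl⟩
    have : IsOpenImmersion k := by
      have : IsOpenImmersion (k ≫ j) := by rw [hk]; exact IsOpenImmersion.of_isLocalization c
      exact IsOpenImmersion.of_comp k j
    have hψw : jc G c ≫ G.toQuot = (pc G c ≫ k) ≫ j := by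
      rw [(isPullback_jc G c).w, Category.assoc, hk]; rfl
    let ψ := hpb.lift (jc G c) (pc G c ≫ k) hψw
    have hr : Set.range (ψ ≫ h) ⊆ Set.range Z0.ι := by
      rintro _ ⟨z, rfl⟩
      rw [Scheme.Opens.range_ι]
      obtain ⟨x', hx', hxe⟩ := hkN (Set.mem_range_self (pc G c z))
      show h (ψ z) ∈ Z0
      have he : p' (ψ z) = p' x' := by
        rw [hxe, ← Scheme.Hom.comp_apply, hpb.lift_snd, Scheme.Hom.comp_apply]
      rw [Inv.apply_eq G hh ((hrel (jX (ψ z)) (jX x')).mp (by rw [hc, hc, he])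
        |> fun ⟨r, h1, h2⟩ => Rel.symm G ⟨r, h2, h1⟩)]
      exact hx'
    obtain ⟨g0, hg0⟩ := exists_pc_desc G c (IsOpenImmersion.lift Z0.ι _ hr) (by
      intro T r a b ha hb
      rw [← cancel_mono Z0.ι, Category.assoc, Category.assoc, IsOpenImmersion.lift_fac]
      simpa only [Category.assoc] using hh r (a ≫ ψ) (b ≫ ψ)
        (by rw [Category.assoc, hpb.lift_fst]; exact ha)
        (by rw [Category.assoc, hpb.lift_fst]; exact hb))
    refine ⟨c, k, g0 ≫ Z0.ι, hko, inferInstance, fun {P} a b hab => ?_⟩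
    have hw : (a ≫ jX) ≫ G.toQuot = b ≫ kc G c := by
      rw [Category.assoc, hpb.w, reassoc_of% hab, hk]; rfl
    let ξ := (isPullback_jc G c).lift (a ≫ jX) b hw
    have hξ : ξ ≫ ψ = a := by
      rw [← cancel_mono jX, Category.assoc, hpb.lift_fst, IsPullback.lift_fst]
    calc b ≫ g0 ≫ Z0.ι = ξ ≫ (pc G c ≫ g0) ≫ Z0.ι := by
          rw [Category.assoc, IsPullback.lift_snd_assoc]
      _ = a ≫ h := by rw [hg0, IsOpenImmersion.lift_fac, ← Category.assoc, hξ]
  choose c k g hko hkimm hkey using key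
  let 𝒰 : O.OpenCover :=
    { I₀ := O
      X := fun o => Spec (CommRingCat.of (Localization.Away (c o)))
      f := k
      mem₀ := by
        rw [Scheme.presieve₀_mem_precoverage_iff]
        exact ⟨fun o => ⟨o, hko o⟩, hkimm⟩ }
  refine ⟨𝒰.glueMorphisms g fun o o' => ?_, ?_⟩
  · have : IsOpenImmersion (pullback.fst (k o) (k o') ≫ k o) := by
      have := hkimm o; have := hkimm o'; infer_instance
    let n := pullback.fst (k o) (k o') ≫ k o
    have hpb2 : IsPullback (pullback.fst p' n ≫ jX) (pullback.snd p' n) G.toQuot (n ≫ j) :=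
      (IsPullback.of_hasPullback p' n).paste_horiz hpb
    refine affine_ext G hpb2 ?_
    show pullback.snd p' n ≫ pullback.fst (k o) (k o') ≫ g o =
      pullback.snd p' n ≫ pullback.snd (k o) (k o') ≫ g o'
    rw [← Category.assoc, ← Category.assoc,
      hkey o (pullback.fst p' n) (pullback.snd p' n ≫ pullback.fst (k o) (k o'))
        (pullback.condition.trans (Category.assoc _ _ _).symm),
      hkey o' (pullback.fst p' n) (pullback.snd p' n ≫ pullback.snd (k o) (k o'))
        (pullback.condition.trans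
          ((congrArg (pullback.snd p' n ≫ ·) pullback.condition).trans (Category.assoc _ _ _).symm))]
  · refine Scheme.Cover.hom_ext (𝒰.pullback₁ p') _ _ fun o => ?_
    show pullback.fst p' (k o) ≫ p' ≫ _ = pullback.fst p' (k o) ≫ h
    rw [pullback.condition_assoc, ← hkey o (pullback.fst p' (k o)) _ pullback.condition]
    congr 1
    exact 𝒰.ι_glueMorphisms _ _ o

/-- The affine quotient. -/
theorem isQuot_toQuot : IsQuot G G.toQuot where
  w := t_toQuot G
  surj := (Groth.Agent.S1878.result S G).1.1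
  isOpenMap := isOpenMap_toQuot G
  rel x y := ((Groth.Agent.S1878.result S G).1.2 x y).trans
    ⟨fun ⟨r, h1, h2⟩ => Rel.symm G ⟨r, h2, h1⟩, fun h => by
      obtain ⟨r, h1, h2⟩ := Rel.symm G h; exact ⟨r, h2, h1⟩⟩
  univ := fun {O X Z} j _ jX p' hpb h hh => by
    obtain ⟨g, hg⟩ := affine_desc G hpb h hh
    exact ⟨g, hg, fun g' hg' => affine_ext G hpb (hg'.trans hg.symm)⟩

end GrpdLib
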