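/-
Gluing the affine quotients.
-/
import Groth.Agent.GrpdLib.Quot.Affine
import Mathlib.AlgebraicGeometry.Gluing

set_option autoImplicit false

universe u

open CategoryTheory CategoryTheory.Limits AlgebraicGeometry

namespace GrpdLib

variable {S : Scheme.{u}} (G : Grpd.GroupoidScheme S)

section Cover

variable {Y : Scheme.{u}} (p : G.U ⟶ Y) (𝒰 : Y.OpenCover) (W : 𝒰.I₀ → G.U.Opens)
  (hW : ∀ i, G.s ⁻¹ᵁ W i = G.t ⁻¹ᵁ W i) (q : ∀ i, (res G (W i) (hW i)).U ⟶ 𝒰.X i)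

theorem mem_of_apply_mem {i : 𝒰.I₀} (hpb : IsPullback (W i).ι (q i) p (𝒰.f i)) {x : G.U}
    {z : 𝒰.X i} (h : p x = 𝒰.f i z) : ∃ x' : (res G (W i) (hW i)).U, (W i).ι x' = x ∧ q i x' = z :=
  AlgebraicGeometry.Scheme.exists_preimage_of_isPullback hpb x z h

theorem t_comp_of_cover (hpb : ∀ i, IsPullback (W i).ι (q i) p (𝒰.f i))
    (hq : ∀ i, IsQuot (res G (W i) (hW i)) (q i)) : G.t ≫ p = G.s ≫ p := by
  refine Scheme.hom_ext_of_forall _ _ fun r => ?_
  obtain ⟨i, z, hz⟩ := 𝒰.exists_eq (p (G.s r))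
  obtain ⟨x', hx', -⟩ := mem_of_apply_mem G p 𝒰 W hW q (hpb i) hz.symm
  refine ⟨G.s ⁻¹ᵁ W i, show G.s r ∈ W i from hx' ▸ x'.2, ?_⟩
  show resιR G (W i) (hW i) ≫ G.t ≫ p = resιR G (W i) (hW i) ≫ G.s ≫ p
  rw [← reassoc_of% res_t, ← reassoc_of% res_s, (hpb i).w, reassoc_of% (hq i).w]

/-- Being a quotient is local on the target. -/
theorem isQuot_of_cover (hpb : ∀ i, IsPullback (W i).ι (q i) p (𝒰.f i))
    (hq : ∀ i, IsQuot (res G (W i) (hW i)) (q i)) : IsQuot G p := by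
  have w := t_comp_of_cover G p 𝒰 W hW q hpb hq
  have hc : ∀ i x, p ((W i).ι x) = 𝒰.f i (q i x) := fun i x => by
    rw [← Scheme.Hom.comp_apply, (hpb i).w, Scheme.Hom.comp_apply]
  refine ⟨w, fun y => ?_, fun O hO => ?_, fun x y => ⟨fun hxy => ?_, ?_⟩, fun {O X Z} j _ jX p' hX h hh => ?_⟩
  · obtain ⟨i, z, rfl⟩ := 𝒰.exists_eq y
    obtain ⟨x, rfl⟩ := (hq i).surj z
    exact ⟨_, hc i x⟩
  · have : p '' O = ⋃ i, 𝒰.f i '' (q i '' ((W i).ι ⁻¹' O)) := by
      ext y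
      simp only [Set.mem_image, Set.mem_iUnion]
      constructor
      · rintro ⟨x, hx, rfl⟩
        obtain ⟨i, z, hz⟩ := 𝒰.exists_eq (p x)
        obtain ⟨x', hx', hxz⟩ := mem_of_apply_mem G p 𝒰 W hW q (hpb i) hz.symm
        exact ⟨i, z, ⟨x', by rwa [Set.mem_preimage, hx'], hxz⟩, hz⟩
      · rintro ⟨i, _, ⟨x, hx, rfl⟩, rfl⟩
        exact ⟨_, hx, hc i x⟩
    rw [this]
    exact isOpen_iUnion fun i => (𝒰.f i).isOpenEmbedding.isOpenMap _
      ((hq i).isOpenMap _ (hO.preimage (W i).ι.continuous))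
  · obtain ⟨i, z, hz⟩ := 𝒰.exists_eq (p x)
    obtain ⟨x', hx', hxz⟩ := mem_of_apply_mem G p 𝒰 W hW q (hpb i) hz.symm
    obtain ⟨y', hy', hyz⟩ := mem_of_apply_mem G p 𝒰 W hW q (hpb i) (hxy ▸ hz.symm)
    rw [← hx', ← hy']
    exact (rel_res_iff G (W i) (hW i) x' y').mp (((hq i).rel x' y').mp (hxz.trans hyz.symm))
  · rintro ⟨r, rfl, rfl⟩
    rw [← Scheme.Hom.comp_apply, ← Scheme.Hom.comp_apply, w]
  -- the universal property
  have : IsOpenImmersion jX := isOpenImmersion_jX G hX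
  have huniq : ∀ {O' X' Z' : Scheme.{u}} (j' : O' ⟶ Y) [IsOpenImmersion j'] (jX' : X' ⟶ G.U)
      (p'' : X' ⟶ O'), IsPullback jX' p'' p j' → ∀ g g' : O' ⟶ Z',
      p'' ≫ g = p'' ≫ g' → g = g' := by
    intro O' X' Z' j' _ jX' p'' hX' g g' hg
    refine Scheme.Cover.hom_ext (𝒰.pullback₁ j') _ _ fun i => ?_
    let P := pullback j' (𝒰.f i)
    have hsq := ((IsPullback.of_hasPullback p'' (pullback.fst j' (𝒰.f i))).paste_horiz hX')
    rw [pullback.condition] at hsq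
    have hsq2 := IsPullback.of_right (h₁₁ := (hpb i).lift _ (pullback.snd _ _ ≫ pullback.snd j' (𝒰.f i))
      (hsq.w.trans (Category.assoc _ _ _).symm)) (by rw [IsPullback.lift_fst]; exact hsq)
      (IsPullback.lift_snd _ _ _ _) (hpb i)
    refine IsQuot.hom_ext _ (hq i) (pullback.snd j' (𝒰.f i)) hsq2 ?_
    show pullback.snd _ _ ≫ pullback.fst j' (𝒰.f i) ≫ g = pullback.snd _ _ ≫ pullback.fst j' (𝒰.f i) ≫ g'
    rw [← pullback.condition_assoc, ← pullback.condition_assoc, hg]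
  have key : ∀ i, ∃ g : pullback j (𝒰.f i) ⟶ Z,
      pullback.snd p' (pullback.fst j (𝒰.f i)) ≫ g = pullback.fst p' (pullback.fst j (𝒰.f i)) ≫ h := by
    intro i
    have hsq := ((IsPullback.of_hasPullback p' (pullback.fst j (𝒰.f i))).paste_horiz hX)
    rw [pullback.condition] at hsq
    have hsq2 := IsPullback.of_right (h₁₁ := (hpb i).lift _ (pullback.snd _ _ ≫ pullback.snd j (𝒰.f i))
      (hsq.w.trans (Category.assoc _ _ _).symm)) (by rw [IsPullback.lift_fst]; exact hsq)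
      (IsPullback.lift_snd _ _ _ _) (hpb i)
    obtain ⟨g, hg, -⟩ := (hq i).univ (pullback.snd j (𝒰.f i)) _ _ hsq2
      (pullback.fst p' (pullback.fst j (𝒰.f i)) ≫ h) (by
        intro T r a b ha hb
        simpa only [Category.assoc] using hh (r ≫ resιR G (W i) (hW i))
          (a ≫ pullback.fst p' (pullback.fst j (𝒰.f i)))
          (b ≫ pullback.fst p' (pullback.fst j (𝒰.f i)))
          (by rw [Category.assoc, ← res_s, reassoc_of% ha, IsPullback.lift_fst, Category.assoc])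
          (by rw [Category.assoc, ← res_t, reassoc_of% hb, IsPullback.lift_fst, Category.assoc]))
    exact ⟨g, hg⟩
  choose g hg using key
  have hgen : ∀ i {P : Scheme.{u}} (a : P ⟶ X) (b : P ⟶ pullback j (𝒰.f i)),
      a ≫ p' = b ≫ pullback.fst j (𝒰.f i) → b ≫ g i = a ≫ h := by
    intro i P a b hab
    rw [← pullback.lift_snd a b hab, Category.assoc, hg, pullback.lift_fst_assoc]
  let 𝒱 : O.OpenCover := 𝒰.pullback₁ j
  have hcompat : ∀ i i', pullback.fst (𝒱.f i) (𝒱.f i') ≫ g i = pullback.snd (𝒱.f i) (𝒱.f i') ≫ g i' := by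
    intro i i'
    let n := pullback.fst (𝒱.f i) (𝒱.f i') ≫ 𝒱.f i
    refine huniq (n ≫ j) _ _ ((IsPullback.of_hasPullback p' n).paste_horiz hX) _ _ ?_
    rw [← Category.assoc, ← Category.assoc]
    exact (hgen i (pullback.fst p' n) _ (pullback.condition.trans (Category.assoc _ _ _).symm)).trans
      (hgen i' (pullback.fst p' n) _ (pullback.condition.trans
        ((congrArg (pullback.snd p' n ≫ ·) pullback.condition).trans (Category.assoc _ _ _).symm))).symm
  have hglue : p' ≫ 𝒱.glueMorphisms g hcompat = h := by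
    refine Scheme.Cover.hom_ext (𝒱.pullback₁ p') _ _ fun i => ?_
    show pullback.fst p' (𝒱.f i) ≫ p' ≫ _ = pullback.fst p' (𝒱.f i) ≫ h
    rw [pullback.condition_assoc, 𝒱.ι_glueMorphisms]
    exact hgen i _ _ pullback.condition
  exact ⟨_, hglue, fun g' hg' => huniq j jX p' hX g' _ (hg'.trans hglue.symm)⟩

end Cover

section Exists

/-- The invariant affine opens. -/
abbrev J : Type u := {W : G.U.Opens // IsAffineOpen W ∧ G.s ⁻¹ᵁ W = G.t ⁻¹ᵁ W}


variable {G}

/-- The restriction to an invariant affine open. -/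
noncomputable abbrev J.grp (W : J G) : Grpd.GroupoidScheme S := res G W.1 W.2.2

instance (W : J G) : IsAffine W.grp.U := W.2.1

variable [IsFinite G.s] [Flat G.s] [LocallyOfFinitePresentation G.s]

instance (W : J G) : IsAffine W.grp.R := isAffine_of_isAffineHom W.grp.s
instance (W : J G) : IsFinite W.grp.t := (isFinLocFree_t W.grp).1
instance (W : J G) : Flat W.grp.t := (isFinLocFree_t W.grp).2.1
instance (W : J G) : LocallyOfFinitePresentation W.grp.t := (isFinLocFree_t W.grp).2.2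

/-- The affine quotient over an invariant affine open. -/
noncomputable abbrev J.q (W : J G) : W.grp.U ⟶ Spec (CommRingCat.of W.grp.invariants) :=
  W.grp.toQuot

theorem J.hom_ext (W : J G) {Z : Scheme.{u}} {g g' : Spec (CommRingCat.of W.grp.invariants) ⟶ Z}
    (h : W.q ≫ g = W.q ≫ g') : g = g' :=
  ((isQuot_toQuot W.grp).existsUnique_desc _ (W.q ≫ g') (by
    rw [← Category.assoc, ← Category.assoc, (isQuot_toQuot W.grp).w])).unique h rfl

/-- The inclusion of invariant affine opens. -/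
noncomputable abbrev J.incl {W W' : J G} (h : W ≤ W') : W.grp.U ⟶ W'.grp.U := G.U.homOfLE h

theorem J.exists_map {W W' : J G} (h : W ≤ W') :
    ∃ m : Spec (CommRingCat.of W.grp.invariants) ⟶ Spec (CommRingCat.of W'.grp.invariants),
      W.q ≫ m = J.incl h ≫ W'.q := by
  refine ((isQuot_toQuot W.grp).existsUnique_desc _ (J.incl h ≫ W'.q) ?_).exists
  have hs : W.grp.s ≫ J.incl h = G.R.homOfLE (G.s.preimage_mono h) ≫ W'.grp.s := by
    rw [← cancel_mono W'.1.ι, Category.assoc, Category.assoc, Scheme.homOfLE_ι,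
      res_s G W'.1 W'.2.2, res_s G W.1 W.2.2, Scheme.homOfLE_ι_assoc]
  have ht : W.grp.t ≫ J.incl h = G.R.homOfLE (G.s.preimage_mono h) ≫ W'.grp.t := by
    rw [← cancel_mono W'.1.ι, Category.assoc, Category.assoc, Scheme.homOfLE_ι,
      res_t G W'.1 W'.2.2, res_t G W.1 W.2.2, Scheme.homOfLE_ι_assoc]
  rw [reassoc_of% hs, reassoc_of% ht, (isQuot_toQuot W'.grp).w]

/-- The transition map of affine quotients. -/
noncomputable def J.map {W W' : J G} (h : W ≤ W') :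
    Spec (CommRingCat.of W.grp.invariants) ⟶ Spec (CommRingCat.of W'.grp.invariants) :=
  (J.exists_map h).choose

theorem J.q_map {W W' : J G} (h : W ≤ W') : W.q ≫ J.map h = J.incl h ≫ W'.q :=
  (J.exists_map h).choose_spec

theorem J.isOpenImmersion_map {W W' : J G} (h : W ≤ W') : IsOpenImmersion (J.map h) := by
  let V' : (Spec (CommRingCat.of W'.grp.invariants)).Opens :=
    ⟨W'.q '' Set.range (J.incl h), (isQuot_toQuot W'.grp).isOpenMap _
      (J.incl h).isOpenEmbedding.isOpen_range⟩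
  have hr : Set.range (J.incl h ≫ W'.q) ⊆ Set.range V'.ι := by
    rintro _ ⟨x, rfl⟩
    rw [Scheme.Opens.range_ι]
    exact ⟨_, ⟨x, rfl⟩, rfl⟩
  let φ := IsOpenImmersion.lift V'.ι _ hr
  have hpb : IsPullback (J.incl h) φ W'.q V'.ι := by
    refine (IsOpenImmersion.isPullback φ (J.incl h) V'.ι W'.q
      (IsOpenImmersion.lift_fac _ _ _).symm ?_).flip
    ext x
    simp only [Scheme.Opens.opensRange_ι]
    refine ⟨?_, fun hx => ⟨x, hx, rfl⟩⟩
    rintro ⟨_, ⟨z, rfl⟩, hxz⟩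
    have hrel := (rel_res_iff G W'.1 W'.2.2 _ _).mp (((isQuot_toQuot W'.grp).rel _ _).mp hxz)
    have hz : W'.1.ι (J.incl h z) ∈ W.1 := by
      rw [← Scheme.Hom.comp_apply, Scheme.homOfLE_ι]
      exact z.2
    have hx : W'.1.ι x ∈ W.1 := (opens_preimage_eq_iff G W.1).mp W.2.2 _ _ hrel hz
    exact ⟨⟨_, hx⟩, W'.1.ι.isOpenEmbedding.injective (by
      rw [← Scheme.Hom.comp_apply, Scheme.homOfLE_ι]; rfl)⟩
  obtain ⟨ψ, hψ, -⟩ := (isQuot_toQuot W'.grp).univ V'.ι (J.incl h) φ hpb W.q (by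
    intro T r a b ha hb
    have hsr : Set.range (r ≫ resιR G W'.1 W'.2.2) ⊆ Set.range (resιR G W.1 W.2.2) := by
      rintro _ ⟨x, rfl⟩
      rw [Scheme.Opens.range_ι]
      show G.s _ ∈ W.1
      rw [← Scheme.Hom.comp_apply, Category.assoc, ← res_s, reassoc_of% ha, Scheme.homOfLE_ι,
        Scheme.Hom.comp_apply]
      exact Subtype.coe_prop _
    let r' : T ⟶ W.grp.R := IsOpenImmersion.lift (resιR G W.1 W.2.2) _ hsr
    have ha' : r' ≫ W.grp.s = a := by
      rw [← cancel_mono W.1.ι, Category.assoc, res_s, IsOpenImmersion.lift_fac_assoc,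
        Category.assoc, ← res_s, reassoc_of% ha, Scheme.homOfLE_ι]
    have hb' : r' ≫ W.grp.t = b := by
      rw [← cancel_mono W.1.ι, Category.assoc, res_t, IsOpenImmersion.lift_fac_assoc,
        Category.assoc, ← res_t, reassoc_of% hb, Scheme.homOfLE_ι]
    rw [← ha', ← hb', Category.assoc, Category.assoc, (isQuot_toQuot W.grp).w])
  have hm : Set.range (J.map h) ⊆ Set.range V'.ι := by
    rintro _ ⟨y, rfl⟩
    obtain ⟨x, rfl⟩ := (isQuot_toQuot W.grp).surj y
    rw [← Scheme.Hom.comp_apply, J.q_map]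
    exact hr ⟨x, rfl⟩
  let m0 := IsOpenImmersion.lift V'.ι (J.map h) hm
  have hqm : W.q ≫ m0 = φ := by
    rw [← cancel_mono V'.ι, Category.assoc, IsOpenImmersion.lift_fac, J.q_map,
      IsOpenImmersion.lift_fac]
  have : IsIso m0 := by
    refine ⟨⟨ψ, W.hom_ext ?_, IsQuot.hom_ext _ (isQuot_toQuot W'.grp) V'.ι hpb ?_⟩⟩
    · rw [reassoc_of% hqm, hψ, Category.comp_id]
    · rw [reassoc_of% hψ, hqm, Category.comp_id]
  rw [← IsOpenImmersion.lift_fac V'.ι (J.map h) hm]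
  infer_instance

variable (G)

/-- The diagram of affine quotients. -/
noncomputable def diagram : J G ⥤ Scheme.{u} where
  obj W := Spec (CommRingCat.of W.grp.invariants)
  map f := J.map f.le
  map_id W := W.hom_ext (by
    rw [J.q_map, Category.comp_id]
    show G.U.homOfLE _ ≫ W.q = W.q
    rw [Scheme.homOfLE_rfl, Category.id_comp])
  map_comp {A B C} f g := A.hom_ext (by
    rw [J.q_map, reassoc_of% J.q_map, J.q_map, Scheme.homOfLE_homOfLE_assoc])

instance {W W' : J G} (f : W ⟶ W') : IsOpenImmersion ((diagram G).map f) :=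
  J.isOpenImmersion_map f.le

/-- An invariant affine open around a point of an invariant open, inside an affine one. -/
theorem exists_le_le (W W' : J G) (x : G.U) (hx : x ∈ W.1) (hx' : x ∈ W'.1) :
    ∃ l : J G, l ≤ W ∧ l ≤ W' ∧ x ∈ l.1 := by
  obtain ⟨l, hl, hxl, hle, hinv⟩ := exists_invariant_affine G x (W.1 ⊓ W'.1)
    (by rw [Scheme.Hom.preimage_inf, Scheme.Hom.preimage_inf, W.2.2, W'.2.2]) ⟨hx, hx'⟩ W.1 W.2.1
    (fun y hy => (opens_preimage_eq_iff G W.1).mp W.2.2 x y hy hx)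
  exact ⟨⟨l, hl, hinv⟩, hle.trans inf_le_left, hle.trans inf_le_right, hxl⟩

theorem J.q_map_apply {W W' : J G} (h : W ≤ W') (x : W.grp.U) :
    J.map h (W.q x) = W'.q (J.incl h x) := by
  rw [← Scheme.Hom.comp_apply, J.q_map, Scheme.Hom.comp_apply]

instance : (diagram G ⋙ Scheme.forget).IsLocallyDirected := by
  constructor
  intro i j k fi fj xi xj hij
  obtain ⟨x, rfl⟩ := (isQuot_toQuot i.grp).surj xi
  obtain ⟨y, rfl⟩ := (isQuot_toQuot j.grp).surj xj
  change J.map fi.le (i.q x) = J.map fj.le (j.q y) at hij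
  rw [J.q_map_apply, J.q_map_apply] at hij
  have hrel := (rel_res_iff G k.1 k.2.2 _ _).mp (((isQuot_toQuot k.grp).rel _ _).mp hij)
  have e : ∀ {A : J G} (hA : A ≤ k) (z : A.grp.U),
      resι G k.1 k.2.2 (J.incl hA z) = A.1.ι z := fun hA z => by
    rw [← Scheme.Hom.comp_apply, Scheme.homOfLE_ι]
  rw [e, e] at hrel
  have hxj : i.1.ι x ∈ j.1 := (opens_preimage_eq_iff G j.1).mp j.2.2 _ _ (Rel.symm G hrel) y.2
  obtain ⟨l, hli, hlj, hxl⟩ := exists_le_le G i j (i.1.ι x) x.2 hxj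
  refine ⟨l, homOfLE hli, homOfLE hlj, l.q ⟨_, hxl⟩, ?_, ?_⟩
  · show J.map hli (l.q _) = i.q x
    rw [J.q_map_apply]
    congr 1
    exact i.1.ι.isOpenEmbedding.injective (by rw [← Scheme.Hom.comp_apply, Scheme.homOfLE_ι]; rfl)
  · show J.map hlj (l.q _) = j.q y
    rw [J.q_map_apply]
    refine ((isQuot_toQuot j.grp).rel _ _).mpr ((rel_res_iff G j.1 j.2.2 _ _).mpr ?_)
    show Rel G (j.1.ι _) (j.1.ι y)
    rw [← Scheme.Hom.comp_apply, Scheme.homOfLE_ι]
    exact hrel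

/-- A groupoid with classes in affine opens has a quotient glued from the affine quotients. -/
theorem exists_isQuot
    (hb : ∀ x : G.U, ∃ V : G.U.Opens, IsAffineOpen V ∧ ∀ y, Rel G x y → y ∈ V) :
    ∃ (Y : Scheme.{u}) (p : G.U ⟶ Y) (𝒰 : Scheme.OpenCover.{u} Y) (W : 𝒰.I₀ → J G)
      (q : ∀ i, (W i).grp.U ⟶ 𝒰.X i),
      IsQuot G p ∧ ∀ i, IsPullback (W i).1.ι (q i) p (𝒰.f i) ∧
        ∃ e : Spec (CommRingCat.of (W i).grp.invariants) ≅ 𝒰.X i, q i = (W i).q ≫ e.hom := by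
  classical
  have hcov : ⨆ W : J G, W.1 = ⊤ := by
    rw [eq_top_iff]
    rintro x -
    obtain ⟨V, hV, hxV⟩ := hb x
    obtain ⟨l, hl, hxl, -, hinv⟩ := exists_invariant_affine G x ⊤ rfl trivial V hV hxV
    exact TopologicalSpace.Opens.mem_iSup.mpr ⟨⟨l, hl, hinv⟩, hxl⟩
  let ι := fun W : J G => colimit.ι (diagram G) W
  have hι : ∀ {A B : J G} (h : A ≤ B), J.map h ≫ ι B = ι A := fun h =>
    colimit.w (diagram G) (homOfLE h)
  let 𝒱 := Scheme.openCoverOfIsOpenCover G.U (fun W : J G => W.1) hcov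
  let p : G.U ⟶ colimit (diagram G) := 𝒱.glueMorphisms (fun W : J G => W.q ≫ ι W) (by
    intro A B
    refine Scheme.hom_ext_of_forall _ _ fun z => ?_
    let f := pullback.fst (A : J G).1.ι (B : J G).1.ι ≫ (A : J G).1.ι
    have hB : f z ∈ (B : J G).1 := by
      show (pullback.fst (A : J G).1.ι (B : J G).1.ι ≫ (A : J G).1.ι) z ∈ (B : J G).1
      rw [pullback.condition, Scheme.Hom.comp_apply]
      exact Subtype.coe_prop _
    obtain ⟨l, hlA, hlB, hzl⟩ := exists_le_le G A B (f z)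
      (by rw [Scheme.Hom.comp_apply]; exact Subtype.coe_prop _) hB
    refine ⟨f ⁻¹ᵁ l.1, hzl, ?_⟩
    let e : (f ⁻¹ᵁ l.1).toScheme ⟶ l.grp.U := f ∣_ l.1
    have h1 : e ≫ J.incl hlA = (f ⁻¹ᵁ l.1).ι ≫ pullback.fst _ _ := by
      rw [← cancel_mono (A : J G).1.ι, Category.assoc, Category.assoc, Scheme.homOfLE_ι]
      exact morphismRestrict_ι _ _
    have h2 : e ≫ J.incl hlB = (f ⁻¹ᵁ l.1).ι ≫ pullback.snd _ _ := by
      rw [← cancel_mono (B : J G).1.ι, Category.assoc, Category.assoc, Scheme.homOfLE_ι,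
        ← pullback.condition]
      exact morphismRestrict_ι _ _
    show (f ⁻¹ᵁ l.1).ι ≫ pullback.fst _ _ ≫ A.q ≫ ι A = (f ⁻¹ᵁ l.1).ι ≫ pullback.snd _ _ ≫ B.q ≫ ι B
    rw [← reassoc_of% h1, ← reassoc_of% h2, ← reassoc_of% J.q_map, ← reassoc_of% J.q_map, hι, hι])
  have hp : ∀ W : J G, W.1.ι ≫ p = W.q ≫ ι W := fun W => 𝒱.ι_glueMorphisms _ _ W
  have hpb : ∀ W : J G, IsPullback W.1.ι W.q p (ι W) := by
    intro W
    refine (@IsOpenImmersion.isPullback _ _ _ _ W.q W.1.ι (ι W) p inferInstance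
      ((Scheme.IsLocallyDirected.openCover (diagram G)).map_prop W) (hp W) ?_).flip
    rw [Scheme.Opens.opensRange_ι]
    ext x
    constructor
    · rintro ⟨z, hz⟩
      obtain ⟨W', hxW'⟩ := TopologicalSpace.Opens.mem_iSup.mp (hcov.ge (Set.mem_univ x))
      obtain ⟨w, rfl⟩ := (isQuot_toQuot W.grp).surj z
      have hpx : p x = ι W' (W'.q ⟨x, hxW'⟩) :=
        congrArg (fun φ : W'.grp.U ⟶ colimit (diagram G) => φ ⟨x, hxW'⟩) (hp W')
      obtain ⟨k, fi, fj, v, hv, hv'⟩ := (Scheme.IsLocallyDirected.ι_eq_ι_iff (diagram G)).mp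
        (hz.trans hpx)
      obtain ⟨v, rfl⟩ := (isQuot_toQuot k.grp).surj v
      change J.map fj.le (k.q v) = _ at hv'
      rw [J.q_map_apply] at hv'
      have hrel := (rel_res_iff G W'.1 W'.2.2 _ _).mp (((isQuot_toQuot W'.grp).rel _ _).mp hv')
      refine (opens_preimage_eq_iff G W.1).mp W.2.2 _ x hrel ?_
      show W'.1.ι (J.incl fj.le v) ∈ W.1
      rw [← Scheme.Hom.comp_apply, Scheme.homOfLE_ι]
      exact fi.le v.2
    · intro hx
      exact ⟨W.q ⟨x, hx⟩,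
        (congrArg (fun φ : W.grp.U ⟶ colimit (diagram G) => φ ⟨x, hx⟩) (hp W)).symm⟩
  let 𝒰 := Scheme.IsLocallyDirected.openCover (diagram G)
  exact ⟨colimit (diagram G), p, 𝒰, fun W => W, fun W => W.q,
    isQuot_of_cover G p 𝒰 (fun W => W.1) (fun W => W.2.2) (fun W => W.q) hpb
      (fun W => isQuot_toQuot W.grp),
    fun W => ⟨hpb W, Iso.refl _, (Category.comp_id _).symm⟩⟩

end Exists

end GrpdLib
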