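/-
Properties of the glued quotient.
-/
import Groth.Agent.GrpdLib.Quot.Glue
import Groth.Agent.S1877

set_option autoImplicit false

universe u

open CategoryTheory CategoryTheory.Limits AlgebraicGeometry

namespace GrpdLib

variable {S : Scheme.{u}} (G : Grpd.GroupoidScheme S)

/-- Pairs of points with the same image come from arrows, also on field-valued points. -/
theorem surjective_lift {Y : Scheme.{u}} {p : G.U ⟶ Y} (w : G.t ≫ p = G.s ≫ p)
    (𝒰 : Scheme.OpenCover.{u} Y) (W : 𝒰.I₀ → J G) (q : ∀ i, (W i).grp.U ⟶ 𝒰.X i)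
    [IsFinite G.s] [Flat G.s] [LocallyOfFinitePresentation G.s]
    (hpb : ∀ i, IsPullback (W i).1.ι (q i) p (𝒰.f i))
    (e : ∀ i, Spec (CommRingCat.of (W i).grp.invariants) ≅ 𝒰.X i)
    (hq : ∀ i, q i = (W i).q ≫ (e i).hom) :
    Function.Surjective (pullback.lift G.t G.s w) := by
  intro z
  let K := AlgebraicClosure ((pullback p p).residueField z)
  let ζ : Spec (CommRingCat.of K) ⟶ pullback p p :=
    Spec.map (CommRingCat.ofHom (algebraMap ((pullback p p).residueField z) K)) ≫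
      (pullback p p).fromSpecResidueField z
  have hζ : ∀ k, ζ k = z := fun k => by
    rw [Scheme.Hom.comp_apply]
    exact Scheme.fromSpecResidueField_apply z _
  let pt : Spec (CommRingCat.of K) := IsLocalRing.closedPoint K
  obtain ⟨i, y, hy⟩ := 𝒰.exists_eq (p (pullback.fst p p z))
  have hr : ∀ (f : pullback p p ⟶ G.U), f ≫ p = pullback.fst p p ≫ p →
      Set.range (ζ ≫ f) ⊆ Set.range (W i).1.ι := by
    intro f hf
    rintro _ ⟨k, rfl⟩
    rw [Scheme.Hom.comp_apply, hζ]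
    have : p (f z) = 𝒰.f i y := by
      rw [← Scheme.Hom.comp_apply, hf, Scheme.Hom.comp_apply, hy]
    obtain ⟨x, hx, -⟩ := AlgebraicGeometry.Scheme.exists_preimage_of_isPullback (hpb i) _ _ this
    exact ⟨x, hx⟩
  let x₀ := IsOpenImmersion.lift (W i).1.ι _ (hr (pullback.fst p p) rfl)
  let x₁ := IsOpenImmersion.lift (W i).1.ι _ (hr (pullback.snd p p) pullback.condition.symm)
  have hx : x₀ ≫ (W i).q = x₁ ≫ (W i).q := by
    rw [← cancel_mono (e i).hom, Category.assoc, Category.assoc, ← hq, ← cancel_mono (𝒰.f i),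
      Category.assoc, Category.assoc, ← (hpb i).w, IsOpenImmersion.lift_fac_assoc,
      IsOpenImmersion.lift_fac_assoc]
    simp only [Category.assoc, pullback.condition]
  obtain ⟨r, hr₀, hr₁⟩ := (((Groth.Agent.S1878.result S (W i).grp).2 K).2 x₀ x₁).mp hx
  refine ⟨resιR G (W i).1 (W i).2.2 (r pt), ?_⟩
  have : r ≫ resιR G (W i).1 (W i).2.2 ≫ pullback.lift G.t G.s w = ζ := by
    apply pullback.hom_ext
    · rw [Category.assoc, Category.assoc, pullback.lift_fst, ← res_t, reassoc_of% hr₀,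
        IsOpenImmersion.lift_fac]
    · rw [Category.assoc, Category.assoc, pullback.lift_snd, ← res_s, reassoc_of% hr₁,
        IsOpenImmersion.lift_fac]
  exact (congrArg (fun φ : Spec (CommRingCat.of K) ⟶ pullback p p => φ pt) this).trans (hζ pt)

/-- Being cartesian is local on the target of the quotient map. -/
theorem isPullback_of_cover [Mono G.j] {Y : Scheme.{u}} {p : G.U ⟶ Y} (w : G.t ≫ p = G.s ≫ p)
    (𝒰 : Scheme.OpenCover.{u} Y) (W : 𝒰.I₀ → G.U.Opens)
    (hW : ∀ i, G.s ⁻¹ᵁ W i = G.t ⁻¹ᵁ W i) (q : ∀ i, (res G (W i) (hW i)).U ⟶ 𝒰.X i)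
    (hpb : ∀ i, IsPullback (W i).ι (q i) p (𝒰.f i))
    (hloc : ∀ i, IsPullback (res G (W i) (hW i)).t (res G (W i) (hW i)).s (q i) (q i)) :
    IsPullback G.t G.s p p := by
  have key : ∀ (c : PullbackCone p p), ∃ r : c.pt ⟶ G.R, r ≫ G.t = c.fst ∧ r ≫ G.s = c.snd := by
    intro c
    let 𝒱 : c.pt.OpenCover := 𝒰.pullback₁ (c.fst ≫ p)
    have hex : ∀ i, ∃ r : 𝒱.X i ⟶ G.R, r ≫ G.t = 𝒱.f i ≫ c.fst ∧ r ≫ G.s = 𝒱.f i ≫ c.snd := by
      intro i
      have hw : (𝒱.f i ≫ c.fst) ≫ p = pullback.snd (c.fst ≫ p) (𝒰.f i) ≫ 𝒰.f i :=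
        (Category.assoc _ _ _).trans pullback.condition
      have hw' : (𝒱.f i ≫ c.snd) ≫ p = pullback.snd (c.fst ≫ p) (𝒰.f i) ≫ 𝒰.f i := by
        rw [Category.assoc, ← c.condition]; exact pullback.condition
      obtain ⟨r, hr₁, hr₂⟩ : ∃ r, r ≫ (res G (W i) (hW i)).t = (hpb i).lift _ _ hw ∧
          r ≫ (res G (W i) (hW i)).s = (hpb i).lift _ _ hw' :=
        ⟨(hloc i).lift ((hpb i).lift _ _ hw) ((hpb i).lift _ _ hw')
          (by rw [IsPullback.lift_snd, IsPullback.lift_snd]),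
          (hloc i).lift_fst _ _ _, (hloc i).lift_snd _ _ _⟩
      refine ⟨r ≫ resιR G (W i) (hW i), ?_, ?_⟩
      · rw [Category.assoc, ← res_t, reassoc_of% hr₁, IsPullback.lift_fst]
      · rw [Category.assoc, ← res_s, reassoc_of% hr₂, IsPullback.lift_fst]
    choose r hr₁ hr₂ using hex
    have hcompat : ∀ i j, pullback.fst (𝒱.f i) (𝒱.f j) ≫ r i = pullback.snd _ _ ≫ r j := by
      intro i j
      refine jointly_mono G ?_ ?_
      · rw [Category.assoc, Category.assoc, hr₂, hr₂, pullback.condition_assoc]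
      · rw [Category.assoc, Category.assoc, hr₁, hr₁, pullback.condition_assoc]
    refine ⟨𝒱.glueMorphisms r hcompat, ?_, ?_⟩
    · refine Scheme.Cover.hom_ext 𝒱 _ _ fun i => ?_
      rw [← Category.assoc, 𝒱.ι_glueMorphisms]
      exact hr₁ i
    · refine Scheme.Cover.hom_ext 𝒱 _ _ fun i => ?_
      rw [← Category.assoc, 𝒱.ι_glueMorphisms]
      exact hr₂ i
  choose r hr₁ hr₂ using key
  exact IsPullback.of_isLimit' ⟨w⟩ (PullbackCone.IsLimit.mk _ r hr₁ hr₂
    fun c m h₁ h₂ => jointly_mono G (h₂.trans (hr₂ c).symm) (h₁.trans (hr₁ c).symm))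

/-- Two quotients are isomorphic. -/
theorem IsQuot.exists_iso {Y Y' : Scheme.{u}} {p : G.U ⟶ Y} {p' : G.U ⟶ Y'} (hp : IsQuot G p)
    (hp' : IsQuot G p') : ∃ e : Y ≅ Y', p ≫ e.hom = p' :=
  ⟨IsColimit.coconePointUniqueUpToIso (hp.isColimit G) (hp'.isColimit G),
    IsColimit.comp_coconePointUniqueUpToIso_hom (hp.isColimit G) (hp'.isColimit G)
      WalkingParallelPair.one⟩

/-- A property local on the target passes from the pieces to the quotient map. -/
theorem prop_of_cover (P : MorphismProperty Scheme.{u}) [IsZariskiLocalAtTarget P] {Y : Scheme.{u}}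
    {p : G.U ⟶ Y} (𝒰 : Scheme.OpenCover.{u} Y) {X : 𝒰.I₀ → Scheme.{u}} (jX : ∀ i, X i ⟶ G.U)
    (q : ∀ i, X i ⟶ 𝒰.X i) (hpb : ∀ i, IsPullback (jX i) (q i) p (𝒰.f i)) (hq : ∀ i, P (q i)) :
    P p := by
  refine IsZariskiLocalAtTarget.of_openCover (P := P) 𝒰 fun i => ?_
  show P (pullback.snd p (𝒰.f i))
  rw [← MorphismProperty.cancel_left_of_respectsIso P (hpb i).isoPullback.hom,
    (hpb i).isoPullback_hom_snd]
  exact hq i

/-- The quotient of a finite locally free groupoid with classes in affine opens. -/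
theorem exists_quotient [IsFinite G.s] [Flat G.s] [LocallyOfFinitePresentation G.s]
    (hb : ∀ x : G.U, ∃ V : G.U.Opens, IsAffineOpen V ∧ ∀ y, Rel G x y → y ∈ V) :
    ∃ (Y : Scheme.{u}) (p : G.U ⟶ Y) (hp : IsQuot G p), IsIntegralHom p ∧ IsAffineHom p ∧
      Function.Surjective (pullback.lift G.t G.s hp.w) ∧
      (Mono G.j → IsPullback G.t G.s p p ∧
        IsFinite p ∧ Flat p ∧ LocallyOfFinitePresentation p) ∧
      (IsAffine G.U → IsAffine Y) := by
  obtain ⟨Y, p, 𝒰, W, q, hp, hloc⟩ := exists_isQuot G hb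
  choose hpb e hq using hloc
  have hint : IsIntegralHom p := prop_of_cover G @IsIntegralHom 𝒰 _ q hpb fun i => by
    have := isIntegralHom_toQuot (W i).grp
    rw [hq]
    infer_instance
  refine ⟨Y, p, hp, hint, inferInstance, surjective_lift G hp.w 𝒰 W q hpb e hq,
    fun hmono => ?_, fun hU => ?_⟩
  · have h1877 := fun i => Groth.Agent.S1877.result S (W i).grp
    have hpb' : IsPullback G.t G.s p p := by
      refine isPullback_of_cover G hp.w 𝒰 (fun i => (W i).1) (fun i => (W i).2.2) q hpb fun i => ?_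
      obtain ⟨φ, hφ₁, hφ₂⟩ := (h1877 i).2
      have : IsPullback (W i).grp.t (W i).grp.s (W i).q (W i).q :=
        IsPullback.of_iso_pullback ⟨(isQuot_toQuot (W i).grp).w⟩ φ hφ₁ hφ₂
      exact this.of_iso (Iso.refl _) (Iso.refl _) (Iso.refl _) (e i) (by simp) (by simp)
        (by simp [hq]) (by simp [hq])
    refine ⟨hpb', prop_of_cover G @IsFinite 𝒰 _ q hpb fun i => ?_,
      prop_of_cover G @Flat 𝒰 _ q hpb fun i => ?_,
      prop_of_cover G @LocallyOfFinitePresentation 𝒰 _ q hpb fun i => ?_⟩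
    all_goals
      obtain ⟨_, _, _⟩ := (h1877 i).1
      rw [hq]
      infer_instance
  · have : IsAffine G.R := isAffine_of_isAffineHom G.s
    obtain ⟨_, _, _⟩ := isFinLocFree_t G
    obtain ⟨e, -⟩ := hp.exists_iso G (isQuot_toQuot G)
    exact IsAffine.of_isIso e.hom

end GrpdLib
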